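import Groth.Agent.SmoothMin.Principal
import Groth.Agent.BlowUpLib.Local
import Groth.Agent.EtNorm.Basic
import Groth.Agent.AlgSpLib.DescendLocally
import Mathlib

/-! # Principal Cartier prime divisors inside an integral principal fibre -/

universe u

open CategoryTheory Limits AlgebraicGeometry TopologicalSpace

set_option backward.isDefEq.respectTransparency false
set_option backward.isDefEq.respectTransparency.types false
set_option linter.style.haveILetI false

noncomputable section

namespace Groth.Agent.SmoothMin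

/-- A connected normal noetherian scheme is integral. -/
theorem isIntegral_of_connected (X : Scheme.{u}) [IsNoetherian X] [ConnectedSpace X]
    (hX : Pi1.IsNormalScheme X) : IsIntegral X := by
  obtain ⟨ι, hfin, Z, hint, hdis, hcov⟩ := EtNorm.exists_components X hX
  obtain ⟨x⟩ : Nonempty X := inferInstance
  obtain ⟨i, hi⟩ := hcov x
  have hclosed : IsClosed (Z i : Set X) := by
    have e : (Z i : Set X) = (⋃ j ∈ {j | j ≠ i}, (Z j : Set X))ᶜ := by
      ext y
      simp only [Set.mem_compl_iff, Set.mem_iUnion, not_exists, SetLike.mem_coe, Set.mem_setOf_eq]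
      refine ⟨fun hy j hj hyj => ((hdis j i hj).le ⟨hyj, hy⟩).elim, fun h => ?_⟩
      obtain ⟨j, hj⟩ := hcov y
      rcases eq_or_ne j i with rfl | hne
      · exact hj
      · exact absurd hj (h j hne)
    rw [e]
    exact (isOpen_biUnion fun j _ => (Z j).isOpen).isClosed_compl
  have htop : Z i = ⊤ := Opens.ext (IsClopen.eq_univ ⟨hclosed, (Z i).isOpen⟩ ⟨x, hi⟩)
  haveI := hint i
  haveI : IsIntegral (⊤ : X.Opens).toScheme := htop ▸ hint i
  exact IsIntegral.of_isIso X.topIso.hom

/-- An integral Cartier closed subscheme inside an integral closed subscheme cut out by a nonzero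
function is that subscheme. -/
theorem ker_eq_of_le {X F E : Scheme.{u}} [IsIntegral X] [IsLocallyNoetherian X] [IsIntegral F]
    [IsIntegral E] (i : F ⟶ X) [IsClosedImmersion i] (ι : E ⟶ X) [IsClosedImmersion ι]
    (hι : BlowUp.IsEffCartierIdeal ι.ker) (l : E ⟶ F) (hl : l ≫ i = ι)
    (a : Γ(X, ⊤)) (ha : a ≠ 0) (hai : i.appTop a = 0) : ι.ker = i.ker := by
  haveI : IsClosedImmersion (l ≫ i) := hl ▸ inferInstance
  haveI : IsClosedImmersion l := IsClosedImmersion.of_comp l i
  let ξ := ι (genericPoint E)
  let ζ := i (genericPoint F)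
  have hζξ : ζ ⤳ ξ := by
    have := (genericPoint_specializes (l (genericPoint E))).map i.continuous
    rwa [← Scheme.Hom.comp_apply, hl] at this
  suffices hξζ : ξ = ζ by
    haveI : Surjective l := ⟨fun y => by
      have h1 : l (genericPoint E) = genericPoint F := i.isEmbedding.injective (by
        rw [← Scheme.Hom.comp_apply, hl]; exact hξζ)
      exact (genericPoint_specializes y).mem_closed l.isClosedEmbedding.isClosed_range
        ⟨genericPoint E, h1⟩⟩
    haveI : IsIso l := isIso_of_isClosedImmersion_of_surjective l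
    rw [← hl, Scheme.Hom.ker_comp_of_isIso]
  obtain ⟨U, hξU, f, -, hf⟩ := hι ξ
  have hζU : ζ ∈ U.1 := hζξ.mem_open U.1.isOpen hξU
  haveI : Nonempty U.1 := ⟨⟨ξ, hξU⟩⟩
  haveI : IsDomain Γ(X, U.1) := inferInstance
  haveI : IsNoetherianRing Γ(X, U.1) := IsLocallyNoetherian.component_noetherian U
  let a' := X.presheaf.map (homOfLE (le_top : U.1 ≤ ⊤)).op a
  have ha' : a' ≠ 0 := fun h => ha ((map_injective_of_isIntegral X _) (h.trans (map_zero _).symm))
  -- membership in the ideal of `E` is vanishing at its generic point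
  have hker : ∀ x : Γ(X, U.1), x ∈ ι.ker.ideal U ↔ ξ ∉ X.basicOpen x := by
    intro x
    rw [Scheme.Hom.ker_apply, RingHom.mem_ker]
    have e : ξ ∈ X.basicOpen x ↔ genericPoint E ∈ E.basicOpen (ι.app U.1 x) := by
      rw [← Scheme.preimage_basicOpen]; rfl
    rw [e]
    refine ⟨fun h hmem => ?_, fun h => ?_⟩
    · rw [h, Scheme.basicOpen_zero] at hmem
      exact hmem
    · by_contra hne
      rw [← basicOpen_eq_bot_iff] at hne
      exact h ((genericPoint_spec E).mem_open_set_iff (E.basicOpen (ι.app U.1 x)).isOpen |>.2 (by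
        rw [Set.univ_inter]
        exact Set.nonempty_iff_ne_empty.2 fun he => hne (Opens.ext he)))
  by_contra hne
  -- functions vanishing at `ζ` are divisible by all powers of `f`
  have hq : ∀ (n : ℕ) (x : Γ(X, U.1)), ζ ∉ X.basicOpen x → x ∈ Ideal.span {f} ^ n := by
    intro n
    induction n with
    | zero => intro x _; simp
    | succ n ih =>
      intro x hx
      have h1 : x ∈ ι.ker.ideal U := (hker x).2 fun h => hx (hζξ.mem_open (X.basicOpen x).isOpen h)
      rw [hf, Ideal.mem_span_singleton] at h1
      obtain ⟨y, rfl⟩ := h1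
      have hfζ : ζ ∈ X.basicOpen f := by
        by_contra hfz
        -- then every function vanishing at `ξ` vanishes at `ζ`
        refine hne ?_
        have h2 : ∀ z : Γ(X, U.1), ζ ∈ X.basicOpen z → ξ ∈ X.basicOpen z := by
          intro z hz
          by_contra hzξ
          have h3 := (hker z).2 hzξ
          rw [hf, Ideal.mem_span_singleton] at h3
          obtain ⟨w, rfl⟩ := h3
          rw [Scheme.basicOpen_mul] at hz
          exact hfz hz.1
        have h5 : ξ ⤳ ζ := by
          rw [specializes_iff_forall_open]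
          intro O hO hζO
          obtain ⟨z, hz, hζz⟩ := U.2.exists_basicOpen_le (V := ⟨O, hO⟩) ⟨ζ, hζO⟩ hζU
          exact hz (h2 z hζz)
        exact (h5.antisymm hζξ).eq
      have hy : ζ ∉ X.basicOpen y := fun h => hx (by
        rw [Scheme.basicOpen_mul]; exact ⟨hfζ, h⟩)
      rw [pow_succ']
      exact Ideal.mul_mem_mul (Ideal.mem_span_singleton_self f) (ih y hy)
  refine ha' ?_
  have hftop : Ideal.span {f} ≠ ⊤ := fun h => by
    have : (1 : Γ(X, U.1)) ∈ ι.ker.ideal U := by rw [hf, h]; exact trivial
    exact (hker 1).1 this (by rw [Scheme.basicOpen_of_isUnit _ isUnit_one]; exact hξU)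
  have hbot := Ideal.iInf_pow_eq_bot_of_isDomain (Ideal.span {f}) hftop
  rw [← Ideal.mem_bot, ← hbot, Ideal.mem_iInf]
  refine fun n => hq n a' fun hmem => ?_
  have h0 : genericPoint F ∈ i ⁻¹ᵁ X.basicOpen a' := hmem
  rw [Scheme.preimage_basicOpen] at h0
  have h1 : i.app U.1 a' = 0 := by
    refine (congr($(i.naturality (homOfLE (le_top : U.1 ≤ ⊤)).op) a)).trans ?_
    show F.presheaf.map _ (i.appTop a) = 0
    rw [hai, map_zero]
  rw [h1, Scheme.basicOpen_zero] at h0
  exact h0

end Groth.Agent.SmoothMin
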