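import Groth.Agent.OmegaLib.IdealMod
import Groth.Agent.CurveBC.Coh
import Groth.Agent.S0843
import Groth.Agent.S7810
import Groth.Agent.HilbPoly.Poly
import Mathlib

/-! # Principal ideal sheaves are trivial modules, and `O(1)` on the projective line is not -/

universe u

open CategoryTheory Limits AlgebraicGeometry TopologicalSpace Opposite

set_option backward.isDefEq.respectTransparency false
set_option backward.isDefEq.respectTransparency.types false
set_option linter.style.haveILetI false

noncomputable section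

namespace Groth.Agent.SmoothMin

variable {X : Scheme.{u}} (K : X.IdealSheafData) (a : Γ(X, ⊤))

/-- The ideal module of a globally principal ideal sheaf generated by a regular element is trivial. -/
theorem nonempty_idealMod_iso
    (hK : ∀ U : X.affineOpens, K.ideal U = Ideal.span {X.presheaf.map (homOfLE le_top).op a})
    (hreg : ∀ (U : X.Opens) (r : Γ(X, U)), r * X.presheaf.map (homOfLE le_top).op a = 0 → r = 0) :
    Nonempty (ClSub.idealMod K ≅ Coh.structureModule X) := by
  have ha : K.subschemeι.app ⊤ a = 0 := by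
    refine K.subscheme.IsSheaf.section_ext fun y hy => ?_
    obtain ⟨_, ⟨(U : X.Opens), hU, rfl⟩, hyU, -⟩ :=
      X.isBasis_affineOpens.exists_subset_of_mem_open (Set.mem_univ (K.subschemeι y)) isOpen_univ
    refine ⟨K.subschemeι ⁻¹ᵁ U, K.subschemeι.preimage_mono le_top, hyU, ?_⟩
    rw [map_zero]
    have h1 : K.subschemeι.app U (X.presheaf.map (homOfLE le_top).op a) = 0 := by
      rw [← RingHom.mem_ker, K.ker_subschemeι_app ⟨U, hU⟩, hK]
      exact Ideal.mem_span_singleton_self _
    exact (congr($(K.subschemeι.naturality (homOfLE (le_top : U ≤ ⊤)).op) a)).symm.trans h1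
  obtain ⟨k₀, hk₀⟩ := OmegaLib.exists_idealSect_eq K ⊤ a ha
  let s : (ClSub.idealMod K).sections :=
    ⟨fun V => (ClSub.idealMod K).presheaf.map (homOfLE le_top).op k₀, fun {V W} i => by
      show (ClSub.idealMod K).presheaf.map i ((ClSub.idealMod K).presheaf.map (homOfLE le_top).op k₀) = _
      rw [← ConcreteCategory.comp_apply, ← Functor.map_comp]
      rfl⟩
  let ψ : Coh.structureModule X ⟶ ClSub.idealMod K := (SheafOfModules.unitHomEquiv _).symm s
  have hψ : ∀ (V : X.Opens) (r : Γ(X, V)), OmegaSh.idealSect K V (ψ.app V r) =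
      r * X.presheaf.map (homOfLE le_top).op a := fun V r => by
    show OmegaSh.idealSect K V (r • (ClSub.idealMod K).presheaf.map (homOfLE le_top).op k₀) = _
    rw [OmegaLib.idealSect_smul, OmegaLib.idealSect_map, hk₀]
  haveI : IsIso ψ := by
    refine Scheme.Modules.Hom.isIso_iff_isIso_app.2 fun V => (ConcreteCategory.isIso_iff_bijective _).2 ⟨?_, ?_⟩
    · intro r r' h
      have h1 := congrArg (OmegaSh.idealSect K V) h
      rw [hψ, hψ] at h1
      exact sub_eq_zero.1 (hreg V (r - r' : Γ(X, V)) (by rw [sub_mul, h1, sub_self]))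
    · intro k
      let x := OmegaSh.idealSect K V k
      have hloc : ∀ p : V, ∃ (W : X.Opens) (_ : p.1 ∈ W) (hWV : W ≤ V) (r : Γ(X, W)),
          r * X.presheaf.map (homOfLE le_top).op a = X.presheaf.map (homOfLE hWV).op x := by
        intro p
        obtain ⟨_, ⟨(W : X.Opens), hW, rfl⟩, hpW, hWV⟩ :=
          X.isBasis_affineOpens.exists_subset_of_mem_open p.2 V.isOpen
        have h1 := OmegaLib.idealSect_mem K ⟨W, hW⟩
          ((ClSub.idealMod K).presheaf.map (homOfLE (show W ≤ V from hWV)).op k)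
        rw [hK, OmegaLib.idealSect_map, Ideal.mem_span_singleton'] at h1
        obtain ⟨r, hr⟩ := h1
        exact ⟨W, hpW, hWV, r, hr⟩
      choose W hpW hWV r hr using hloc
      have hcov : V ≤ iSup W := fun p hp => Opens.mem_iSup.2 ⟨⟨p, hp⟩, hpW ⟨p, hp⟩⟩
      obtain ⟨R, hR, -⟩ := TopCat.Sheaf.existsUnique_gluing' X.sheaf W V (fun p => homOfLE (hWV p)) hcov r
        fun p q => by
          refine sub_eq_zero.1 (hreg (W p ⊓ W q) _ ?_)
          show (X.presheaf.map (homOfLE (inf_le_left : W p ⊓ W q ≤ W p)).op (r p) -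
            X.presheaf.map (homOfLE (inf_le_right : W p ⊓ W q ≤ W q)).op (r q)) * _ = 0
          have e1 := congrArg (X.presheaf.map (homOfLE (inf_le_left : W p ⊓ W q ≤ W p)).op) (hr p)
          have e2 := congrArg (X.presheaf.map (homOfLE (inf_le_right : W p ⊓ W q ≤ W q)).op) (hr q)
          rw [map_mul, ← CommRingCat.comp_apply, ← Functor.map_comp, ← CommRingCat.comp_apply,
            ← Functor.map_comp] at e1 e2
          rw [sub_mul, sub_eq_zero]
          exact e1.trans e2.symm
      refine ⟨R, OmegaLib.idealSect_injective K V ?_⟩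
      rw [hψ]
      refine X.IsSheaf.section_ext fun p hp => ⟨W ⟨p, hp⟩, hWV ⟨p, hp⟩, hpW ⟨p, hp⟩, ?_⟩
      rw [map_mul, show X.presheaf.map (homOfLE (hWV ⟨p, hp⟩)).op R = r ⟨p, hp⟩ from hR ⟨p, hp⟩,
        ← CommRingCat.comp_apply, ← Functor.map_comp]
      exact hr ⟨p, hp⟩
  exact ⟨(asIso ψ).symm⟩

/-- `O(1)` on the projective line is not trivial. -/
theorem isEmpty_twist_one_iso (k : Type u) [Field k] :
    IsEmpty (Twist.twistProjSpace 1 k 1 ≅ Coh.structureModule (CohB1.ProjSpace 1 k)) := by
  refine ⟨fun e => ?_⟩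
  let P := CohB1.ProjSpace 1 k
  letI : P.Over (Spec (CommRingCat.of k)) := ⟨CohB1.ProjSpace.toSpec 1 k⟩
  have h1 : Module.finrank k (Coh.HH P (Twist.twistProjSpace 1 k ((1 : ℕ) : ℤ)) 0) = 2 := by
    obtain ⟨φ⟩ := S0843.result k 1 1
    exact φ.finrank_eq.trans (CurveEmbed.finrank_binary k 1)
  have h2 := (HilbPoly.finrank_HH_iso k e 0).trans (S7810.projLine_facts k).1
  exact absurd (h1.symm.trans h2) (by norm_num)

end Groth.Agent.SmoothMin
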